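import Cfsg.Agent.H836.CX.Base

/-!
# S5242, TEAM CX, piece C1: types of `p`-subgroups

`τ(P) = (e(P), |J(P)|, |O_0(P)|, |O_1(P)|, ...)` in `Lex (ℕ → ℕ)`, `Y(P) = ⨆ O_j(P)`:
`e(P)` the maximal order of an elementary abelian subgroup, `J(P)` the Thompson subgroup, `V_0 = Ω₁(Z(J(P)))`,
`O_j(P)` generated by the `α`-subgroups of `P` on `V_j` and the `t` with `|V_j : C(t)| ≤ p`, `V_{j+1} = C_{V_j}(O_j)`.
-/

set_option autoImplicit false

namespace Cfsg.Agent.H220.CX

open Subgroup Cfsg.Agent.H836.CX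

variable {Γ : Type*} [Group Γ]

/-! ### generators -/

/-- `α`-subgroups on `V` and cyclic subgroups generated by `t` with `|V : C_V(t)| ≤ p` -/
def QG (p : ℕ) (V A : Subgroup Γ) : Prop := AlphaG p V A ∨ ∃ t, TvG p V t ∧ A = zpowers t

theorem famG_iff {p : ℕ} {Y P : Subgroup Γ} :
    FamG p Y P ↔ IsPGroup p P ∧ Y ≤ P ∧ ∃ A ≤ P, QG p (Om p Y) A ∧ ¬ A ≤ Y := by
  unfold FamG QG
  refine and_congr_right fun _ => and_congr_right fun _ => ?_
  constructor
  · rintro (⟨A, h1, h2, h3⟩ | ⟨t, h1, h2, h3⟩)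
    · exact ⟨A, h1, Or.inl h2, h3⟩
    · exact ⟨zpowers t, by rwa [zpowers_le], Or.inr ⟨t, h3, rfl⟩, by rwa [zpowers_le]⟩
  · rintro ⟨A, h1, h2 | ⟨t, h2, rfl⟩, h3⟩
    · exact Or.inl ⟨A, h1, h2, h3⟩
    · exact Or.inr ⟨t, by rwa [zpowers_le] at h1, by rwa [zpowers_le] at h3, h2⟩

theorem mem_centralizer_one {t z : Γ} : z ∈ centralizer ({t} : Set Γ) ↔ t * z = z * t := by
  rw [mem_centralizer_iff]
  constructor
  · intro h
    exact h t rfl
  · rintro h _ rfl
    exact h

theorem card_cent (V : Subgroup Γ) (t : Γ) :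
    Nat.card {z : Γ // z ∈ V ∧ t * z = z * t} = Nat.card ↥(centralizer ({t} : Set Γ) ⊓ V) := by
  refine Nat.card_congr (Equiv.subtypeEquivRight fun z => ?_)
  rw [mem_inf, mem_centralizer_one, and_comm]

theorem tvG_iff [Finite Γ] {p : ℕ} {V : Subgroup Γ} {t : Γ} :
    TvG p V t ↔ (centralizer ({t} : Set Γ)).relIndex V ≤ p := by
  unfold TvG
  rw [card_cent, ← relIndex_bot_left V, ← relIndex_bot_left (centralizer ({t} : Set Γ) ⊓ V),
    ← inf_relIndex_right (centralizer ({t} : Set Γ)) V,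
    ← relIndex_mul_relIndex ⊥ (centralizer ({t} : Set Γ) ⊓ V) V bot_le inf_le_right, relIndex_bot_left, mul_comm]
  exact Nat.mul_le_mul_right_iff Nat.card_pos

theorem QG.anti [Finite Γ] {p : ℕ} {V V' A : Subgroup Γ} (h : V' ≤ V) (hA : QG p V A) : QG p V' A := by
  rcases hA with hA | ⟨t, ht, rfl⟩
  · exact Or.inl fun B h1 h2 z hz => hA B h1 h2 z (h hz)
  · refine Or.inr ⟨t, ?_, rfl⟩
    rw [tvG_iff] at ht ⊢
    have h0 : (centralizer ({t} : Set Γ)).relIndex V ≠ 0 :=
      index_ne_zero_of_finite (H := (centralizer ({t} : Set Γ)).subgroupOf V)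
    exact (relIndex_le_of_le_right h h0).trans ht

theorem QG.of_cent [Finite Γ] {p : ℕ} [Fact p.Prime] {V : Subgroup Γ} {t : Γ} (h : ∀ v ∈ V, t * v = v * t) :
    QG p V (zpowers t) := by
  refine Or.inr ⟨t, ?_, rfl⟩
  rw [tvG_iff]
  have h1 : (centralizer ({t} : Set Γ)).relIndex V = 1 := by
    rw [relIndex_eq_one]
    exact fun v hv => mem_centralizer_one.2 (h v hv)
  rw [h1]
  exact (Fact.out : p.Prime).one_lt.le

/-! ### the definitions -/

/-- elementary abelian subgroups -/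
def El (p : ℕ) (E : Subgroup Γ) : Prop := (∀ a ∈ E, ∀ b ∈ E, a * b = b * a) ∧ ∀ a ∈ E, a ^ p = 1

/-- the maximal order of an elementary abelian subgroup -/
noncomputable def eG (p : ℕ) (P : Subgroup Γ) : ℕ := sSup {n | ∃ E ≤ P, El p E ∧ Nat.card E = n}

/-- the Thompson subgroup -/
noncomputable def JG (p : ℕ) (P : Subgroup Γ) : Subgroup Γ := sSup {E | E ≤ P ∧ El p E ∧ Nat.card E = eG p P}

/-- the subgroup generated by the `QG` subgroups -/
noncomputable def OG (p : ℕ) (V P : Subgroup Γ) : Subgroup Γ := sSup {A | A ≤ P ∧ QG p V A}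

/-- `V_j` -/
noncomputable def VG (p : ℕ) (P : Subgroup Γ) : ℕ → Subgroup Γ
  | 0 => Om p (JG p P)
  | j + 1 => VG p P j ⊓ centralizer (OG p (VG p P j) P : Set Γ)

/-- `O_j` -/
noncomputable def OsG (p : ℕ) (P : Subgroup Γ) (j : ℕ) : Subgroup Γ := OG p (VG p P j) P

/-- `Y` -/
noncomputable def YG (p : ℕ) (P : Subgroup Γ) : Subgroup Γ := ⨆ j, OsG p P j

/-- the type -/
noncomputable def tauG (p : ℕ) (P : Subgroup Γ) : Lex (ℕ → ℕ) :=
  toLex fun i => match i with
    | 0 => eG p P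
    | 1 => Nat.card (JG p P)
    | i + 2 => Nat.card (OsG p P i)

section basic

variable {p : ℕ}

theorem El.bot : El p (⊥ : Subgroup Γ) :=
  ⟨fun a ha b hb => by rw [mem_bot.1 ha, mem_bot.1 hb], fun a ha => by rw [mem_bot.1 ha, one_pow]⟩

theorem JG_le (P : Subgroup Γ) : JG p P ≤ P := sSup_le fun _ h => h.1

theorem OG_le (V P : Subgroup Γ) : OG p V P ≤ P := sSup_le fun _ h => h.1

theorem le_OG {V P A : Subgroup Γ} (h : A ≤ P) (hA : QG p V A) : A ≤ OG p V P := le_sSup (a := A) ⟨h, hA⟩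

theorem le_JG {P E : Subgroup Γ} (h : E ≤ P) (hE : El p E) (hc : Nat.card E = eG p P) : E ≤ JG p P :=
  le_sSup (a := E) ⟨h, hE, hc⟩

theorem OG_mono {V P P' : Subgroup Γ} (h : P ≤ P') : OG p V P ≤ OG p V P' :=
  sSup_le fun _ hA => le_OG (hA.1.trans h) hA.2

theorem VG_succ (P : Subgroup Γ) (j : ℕ) : VG p P (j + 1) = VG p P j ⊓ centralizer (OsG p P j : Set Γ) := rfl

theorem VG_anti (P : Subgroup Γ) : Antitone (VG p P) := antitone_nat_of_succ_le fun _ => inf_le_left

theorem YG_le (P : Subgroup Γ) : YG p P ≤ P := iSup_le fun _ => OG_le _ _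

theorem El.zpowers {z : Γ} (hz : z ^ p = 1) : El p (zpowers z) := by
  constructor
  · intro a ha b hb
    obtain ⟨i, rfl⟩ := mem_zpowers_iff.1 ha
    obtain ⟨j, rfl⟩ := mem_zpowers_iff.1 hb
    exact ((Commute.refl z).zpow_zpow i j).eq
  · intro a ha
    obtain ⟨i, rfl⟩ := mem_zpowers_iff.1 ha
    rw [← zpow_natCast, ← zpow_mul, mul_comm, zpow_mul, zpow_natCast, hz, one_zpow]

theorem El.anti {E E' : Subgroup Γ} (h : E' ≤ E) (hE : El p E) : El p E' :=
  ⟨fun a ha b hb => hE.1 a (h ha) b (h hb), fun a ha => hE.2 a (h ha)⟩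

theorem El.Om (Y : Subgroup Γ) : El p (Om p Y) := ⟨fun a ha _ hb => hb.2.1 a ha.1, fun _ ha => ha.2.2⟩

/-- the product of two subgroups which commute elementwise -/
theorem exists_prod (B K : Subgroup Γ) (h : ∀ b ∈ B, ∀ k ∈ K, b * k = k * b) :
    ∃ R : Subgroup Γ, (∀ x, x ∈ R ↔ ∃ b ∈ B, ∃ k ∈ K, b * k = x) ∧
      Nat.card B * Nat.card K = Nat.card ↥(B ⊓ K) * Nat.card R := by
  let f : B × K →* Γ := MonoidHom.noncommCoprod B.subtype K.subtype fun b k => h b b.2 k k.2
  have hf : ∀ x : B × K, f x = x.1 * x.2 := fun x => rfl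
  refine ⟨f.range, fun x => ?_, ?_⟩
  · rw [MonoidHom.mem_range]
    constructor
    · rintro ⟨y, rfl⟩
      exact ⟨y.1, y.1.2, y.2, y.2.2, rfl⟩
    · rintro ⟨b, hb, k, hk, rfl⟩
      exact ⟨(⟨b, hb⟩, ⟨k, hk⟩), rfl⟩
  · rw [← Nat.card_prod, ← card_mul_index f.ker, index_ker]
    congr 1
    refine Nat.card_congr ⟨fun x => ⟨x.1.1, x.1.1.2, ?_⟩, fun x => ⟨(⟨x, x.2.1⟩, ⟨(x : Γ)⁻¹, K.inv_mem x.2.2⟩), ?_⟩,
      fun x => ?_, fun x => ?_⟩
    · have h1 : (x.1.1 : Γ) * x.1.2 = 1 := x.2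
      rw [eq_inv_of_mul_eq_one_left h1]
      exact K.inv_mem x.1.2.2
    · rw [MonoidHom.mem_ker, hf]
      exact mul_inv_cancel _
    · have h1 : (x.1.1 : Γ) * x.1.2 = 1 := x.2
      apply Subtype.ext
      apply Prod.ext
      · rfl
      · apply Subtype.ext
        change ((x.1.1 : Γ))⁻¹ = x.1.2
        rw [eq_inv_of_mul_eq_one_right h1]
    · rfl

/-- the product of two elementary abelian subgroups -/
theorem El.prod {B K R : Subgroup Γ} (h : ∀ b ∈ B, ∀ k ∈ K, b * k = k * b)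
    (hR : ∀ x, x ∈ R ↔ ∃ b ∈ B, ∃ k ∈ K, b * k = x) (hB : El p B) (hK : El p K) : El p R := by
  constructor
  · intro x hx y hy
    obtain ⟨a, ha, i, hi, rfl⟩ := (hR x).1 hx
    obtain ⟨b, hb, j, hj, rfl⟩ := (hR y).1 hy
    have h2 : Commute b i := h b hb i hi
    have h3 : Commute a j := h a ha j hj
    have h4 : Commute a b := hB.1 a ha b hb
    have h5 : Commute i j := hK.1 i hi j hj
    exact ((h4.mul_right h3).mul_left (h2.symm.mul_right h5)).eq
  · intro x hx
    obtain ⟨a, ha, i, hi, rfl⟩ := (hR x).1 hx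
    have h3 : Commute a i := h a ha i hi
    rw [h3.mul_pow, hB.2 a ha, hK.2 i hi, one_mul]

end basic

section finite

variable [Finite Γ] {p : ℕ}

theorem bdd (P : Subgroup Γ) : BddAbove {n | ∃ E ≤ P, El p E ∧ Nat.card E = n} := by
  refine ⟨Nat.card Γ, ?_⟩
  rintro _ ⟨E, -, -, rfl⟩
  exact card_le_card_group E

theorem exists_eG (P : Subgroup Γ) : ∃ E ≤ P, El p E ∧ Nat.card E = eG p P :=
  Nat.sSup_mem (s := {n | ∃ E ≤ P, El p E ∧ Nat.card E = n})
    ⟨Nat.card (⊥ : Subgroup Γ), ⊥, bot_le, El.bot, rfl⟩ (bdd P)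

theorem le_eG {P E : Subgroup Γ} (h : E ≤ P) (hE : El p E) : Nat.card E ≤ eG p P :=
  le_csSup (bdd P) ⟨E, h, hE, rfl⟩

theorem OG_anti {V V' P : Subgroup Γ} (h : V' ≤ V) : OG p V P ≤ OG p V' P :=
  sSup_le fun _ hA => le_OG hA.1 (hA.2.anti h)

theorem OsG_mono (P : Subgroup Γ) : Monotone (OsG p P) := fun _ _ h => OG_anti (VG_anti P h)

/-- the sequences are stable -/
theorem exists_stable (P : Subgroup Γ) : ∃ n, ∀ m, n ≤ m → VG p P m = VG p P n := by
  obtain ⟨n, hn⟩ := WellFoundedGT.monotone_chain_condition' (α := (Subgroup Γ)ᵒᵈ)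
    ⟨fun i => OrderDual.toDual (VG p P i), fun _ _ h => VG_anti P h⟩
  refine ⟨n, fun m hm => ?_⟩
  by_contra hne
  exact hn m hm (lt_of_le_of_ne (OrderDual.toDual_le_toDual.2 (VG_anti P hm))
    fun h => hne (OrderDual.toDual.injective h).symm)

theorem YG_eq {P : Subgroup Γ} {n : ℕ} (hn : ∀ m, n ≤ m → VG p P m = VG p P n) : YG p P = OsG p P n := by
  refine le_antisymm (iSup_le fun m => ?_) (le_iSup _ n)
  rcases le_total m n with h | h
  · exact OsG_mono P h
  · unfold OsG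
    rw [hn m h]

/-- `Y` centralises the last `V` -/
theorem VG_le_cent {P : Subgroup Γ} {n : ℕ} (hn : ∀ m, n ≤ m → VG p P m = VG p P n) :
    VG p P n ≤ centralizer (YG p P : Set Γ) := by
  have h := hn (n + 1) (Nat.le_succ n)
  rw [VG_succ] at h
  rw [YG_eq hn]
  exact inf_eq_left.1 h

variable [Fact p.Prime]

/-- `C_P(V_n) ≤ Y` -/
theorem mem_OG_of_cent {V P : Subgroup Γ} {z : Γ} (hz : z ∈ P) (h : ∀ v ∈ V, z * v = v * z) : z ∈ OG p V P :=
  le_OG (by rwa [zpowers_le]) (QG.of_cent h) (mem_zpowers z)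

theorem JG_le_OsG (P : Subgroup Γ) (j : ℕ) : JG p P ≤ OsG p P j := by
  refine le_trans ?_ (OsG_mono P (Nat.zero_le j))
  intro z hz
  exact mem_OG_of_cent (JG_le P hz) fun v hv => hv.2.1 z hz

theorem JG_le_YG (P : Subgroup Γ) : JG p P ≤ YG p P := (JG_le_OsG P 0).trans (le_iSup _ 0)

/-- `V_∞ = Ω₁(Z(Y))` -/
theorem VG_eq_Om {P : Subgroup Γ} {n : ℕ} (hn : ∀ m, n ≤ m → VG p P m = VG p P n) :
    VG p P n = Om p (YG p P) := by
  apply le_antisymm
  · intro z hz
    have h0 : z ∈ VG p P 0 := VG_anti P (Nat.zero_le n) hz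
    refine ⟨JG_le_YG P h0.1, fun y hy => ?_, h0.2.2⟩
    exact mem_centralizer_iff.1 (VG_le_cent hn hz) y hy
  · intro z hz
    have key : ∀ m, z ∈ VG p P m := by
      intro m
      induction m with
      | zero =>
        refine ⟨?_, fun y hy => hz.2.1 y (JG_le_YG P hy), hz.2.2⟩
        obtain ⟨E, hE1, hE2, hE3⟩ := exists_eG (p := p) P
        have hEY : E ≤ YG p P := (le_JG hE1 hE2 hE3).trans (JG_le_YG P)
        have hc : ∀ a ∈ E, ∀ k ∈ zpowers z, a * k = k * a := fun a ha k hk => by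
          obtain ⟨i, rfl⟩ := mem_zpowers_iff.1 hk
          exact ((show Commute a z from hz.2.1 a (hEY ha)).zpow_right i).eq
        -- `⟨z⟩ E` is elementary abelian
        obtain ⟨R, hR, -⟩ := exists_prod E (zpowers z) hc
        have h2 : El p R := El.prod hc hR hE2 (El.zpowers hz.2.2)
        have h3 : R ≤ P := by
          intro x hx
          obtain ⟨a, ha, k, hk, rfl⟩ := (hR x).1 hx
          have hzP : zpowers z ≤ P := by
            rw [zpowers_le]
            exact YG_le P hz.1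
          exact mul_mem (hE1 ha) (hzP hk)
        have h4 : E ≤ R := fun a ha => (hR a).2 ⟨a, ha, 1, one_mem _, mul_one a⟩
        have h5 : E = R := Subgroup.eq_of_le_of_card_ge h4 (by rw [hE3]; exact le_eG h3 h2)
        have h6 : z ∈ E := by
          rw [h5]
          exact (hR z).2 ⟨1, one_mem _, z, mem_zpowers z, one_mul z⟩
        exact le_JG hE1 hE2 hE3 h6
      | succ m ih =>
        refine ⟨ih, mem_centralizer_iff.2 fun y hy => hz.2.1 y ?_⟩
        exact le_iSup (OsG p P) m hy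
    exact key n

/-- (5) -/
theorem mem_YG {P : Subgroup Γ} {z : Γ} (hz : z ∈ P) (h : ∀ v ∈ Om p (YG p P), z * v = v * z) : z ∈ YG p P := by
  obtain ⟨n, hn⟩ := exists_stable (p := p) P
  rw [← VG_eq_Om hn] at h
  rw [YG_eq hn]
  exact mem_OG_of_cent hz h

/-! ### comparison -/

omit [Fact p.Prime] in
theorem eG_mono {P P' : Subgroup Γ} (h : P ≤ P') : eG p P ≤ eG p P' := by
  obtain ⟨E, h1, h2, h3⟩ := exists_eG (p := p) P
  rw [← h3]
  exact le_eG (h1.trans h) h2

omit [Finite Γ] [Fact p.Prime] in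
theorem JG_mono {P P' : Subgroup Γ} (h : P ≤ P') (he : eG p P = eG p P') : JG p P ≤ JG p P' :=
  sSup_le fun _ hE => le_JG (hE.1.trans h) hE.2.1 (hE.2.2.trans he)

omit [Finite Γ] [Fact p.Prime] in
theorem VG_zero (P : Subgroup Γ) : VG p P 0 = Om p (JG p P) := rfl

omit [Finite Γ] [Fact p.Prime] in
theorem OsG_le_of {P P' : Subgroup Γ} (h : P ≤ P') {j : ℕ} (hV : VG p P j = VG p P' j) : OsG p P j ≤ OsG p P' j := by
  unfold OsG
  rw [hV]
  exact OG_mono h

omit [Fact p.Prime] in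
/-- agreement of the types up to `i + 2` gives the same `V_i` -/
theorem VG_agree {P P' : Subgroup Γ} (h : P ≤ P') (i : ℕ)
    (hi : ∀ j < i + 2, ofLex (tauG p P) j = ofLex (tauG p P') j) : VG p P i = VG p P' i := by
  induction i with
  | zero =>
    have h0 : eG p P = eG p P' := hi 0 (by omega)
    have h1 : Nat.card (JG p P) = Nat.card (JG p P') := hi 1 (by omega)
    rw [VG_zero, VG_zero, Subgroup.eq_of_le_of_card_ge (JG_mono h h0) h1.ge]
  | succ i ih =>
    have h1 := ih fun j hj => hi j (by omega)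
    have h2 : Nat.card (OsG p P i) = Nat.card (OsG p P' i) := hi (i + 2) (by omega)
    rw [VG_succ, VG_succ, h1, Subgroup.eq_of_le_of_card_ge (OsG_le_of h h1) h2.ge]

theorem tauG_le {P P' : Subgroup Γ} (h : P ≤ P') : tauG p P ≤ tauG p P' := by
  by_contra hne
  obtain ⟨i, h1, h2⟩ := not_le.1 hne
  have h1' : ∀ j < i, ofLex (tauG p P) j = ofLex (tauG p P') j := fun j hj => (h1 j hj).symm
  match i with
  | 0 => exact absurd (eG_mono h) (not_le.2 h2)
  | 1 =>
    have h0 : eG p P = eG p P' := h1' 0 (by omega)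
    exact absurd (card_le_of_le (JG_mono h h0)) (not_le.2 h2)
  | i + 2 =>
    have h3 := VG_agree h i h1'
    exact absurd (card_le_of_le (OsG_le_of h h3)) (not_le.2 h2)

theorem VG_eq_of_tauG {P P' : Subgroup Γ} (h : P ≤ P') (he : tauG p P = tauG p P') (j : ℕ) :
    VG p P j = VG p P' j := VG_agree h j fun _ _ => by rw [he]

theorem OsG_eq_of_tauG {P P' : Subgroup Γ} (h : P ≤ P') (he : tauG p P = tauG p P') (j : ℕ) :
    OsG p P j = OsG p P' j := by
  have h2 : Nat.card (OsG p P j) = Nat.card (OsG p P' j) := congrFun (congrArg ofLex he) (j + 2)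
  exact Subgroup.eq_of_le_of_card_ge (OsG_le_of h (VG_eq_of_tauG h he j)) h2.ge

theorem YG_eq_of_tauG {P P' : Subgroup Γ} (h : P ≤ P') (he : tauG p P = tauG p P') : YG p P = YG p P' :=
  iSup_congr fun j => OsG_eq_of_tauG h he j

omit [Fact p.Prime] in
/-- if all the generators lie in `R` then `R` has the same type -/
theorem tauG_eq_of {R P : Subgroup Γ} (h : R ≤ P) (h1 : ∀ E ≤ P, El p E → Nat.card E = eG p P → E ≤ R)
    (h2 : ∀ j, VG p R j = VG p P j → ∀ A ≤ P, QG p (VG p R j) A → A ≤ R) : tauG p R = tauG p P := by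
  have he : eG p R = eG p P := by
    refine le_antisymm (eG_mono h) ?_
    obtain ⟨E, h3, h4, h5⟩ := exists_eG (p := p) P
    rw [← h5]
    exact le_eG (h1 E h3 h4 h5) h4
  have hJ : JG p R = JG p P := by
    refine le_antisymm (JG_mono h he) ?_
    exact sSup_le fun E hE => le_JG (h1 E hE.1 hE.2.1 hE.2.2) hE.2.1 (hE.2.2.trans he.symm)
  have hO : ∀ j, VG p R j = VG p P j → OsG p R j = OsG p P j := by
    intro j hj
    refine le_antisymm (OsG_le_of h hj) ?_
    refine sSup_le fun A hA => ?_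
    have h3 : QG p (VG p R j) A := by
      rw [hj]
      exact hA.2
    exact le_OG (h2 j hj A hA.1 h3) h3
  have hV : ∀ j, VG p R j = VG p P j := by
    intro j
    induction j with
    | zero => rw [VG_zero, VG_zero, hJ]
    | succ j ih => rw [VG_succ, VG_succ, ih, hO j ih]
  unfold tauG
  congr 1
  funext i
  match i with
  | 0 => exact he
  | 1 => exact congrArg (fun K : Subgroup Γ => Nat.card K) hJ
  | i + 2 => exact congrArg (fun K : Subgroup Γ => Nat.card K) (hO i (hV i))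

theorem tauG_YG (P : Subgroup Γ) : tauG p (YG p P) = tauG p P := by
  refine tauG_eq_of (YG_le P) (fun E h1 h2 h3 => (le_JG h1 h2 h3).trans (JG_le_YG P)) fun j hj A hA hQ => ?_
  rw [hj] at hQ
  exact (le_OG hA hQ).trans (le_iSup (OsG p P) j)

/-! ### the Thompson argument -/

omit [Finite Γ] [Fact p.Prime] in
theorem El.isPGroup {E : Subgroup Γ} (hE : El p E) : IsPGroup p E := fun x => ⟨1, by
  rw [pow_one]
  exact Subtype.ext (hE.2 x x.2)⟩

theorem relIndex_pow {H K : Subgroup Γ} (hK : El p K) : ∃ n : ℕ, H.relIndex K = p ^ n :=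
  IsPGroup.index hK.isPGroup (H.subgroupOf K)

theorem elem_le {Y₀ P E : Subgroup Γ} (hY : Y₀ ≤ P) (hE1 : E ≤ P) (hE2 : El p E) (hE3 : Nat.card E = eG p P)
    (hQ : ∀ A ≤ P, QG p (Om p Y₀) A → A ≤ Y₀) : E ≤ Y₀ := by
  have hp : p.Prime := Fact.out
  by_contra hne
  set V := Om p Y₀ with hVdef
  have hVP : V ≤ P := fun z hz => hY hz.1
  have hVel : El p V := El.Om Y₀
  set C := E ⊓ centralizer (V : Set Γ) with hCdef
  have hCV : ∀ c ∈ C, ∀ v ∈ V, c * v = v * c := fun c hc v hv => (mem_centralizer_iff.1 hc.2 v hv).symm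
  have hY₀ : ∀ y ∈ Y₀, ∀ v ∈ V, y * v = v * y := fun y hy v hv => hv.2.1 y hy
  have hCE : C < E := by
    refine lt_of_le_of_ne inf_le_left fun h => hne fun z hz => ?_
    rw [← h] at hz
    exact hQ (zpowers z) (by rw [zpowers_le]; exact hE1 hz.1) (QG.of_cent (hCV z hz)) (mem_zpowers z)
  let W : Subgroup Γ → Subgroup Γ := fun B => V ⊓ centralizer (B : Set Γ)
  have hW : ∀ (B : Subgroup Γ) z, z ∈ W B ↔ z ∈ V ∧ ∀ b ∈ B, b * z = z * b := fun B z => by
    rw [mem_inf, mem_centralizer_iff]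
    rfl
  have hWa : ∀ B B' : Subgroup Γ, B' ≤ B → W B ≤ W B' := fun B B' h z hz =>
    (hW _ _).2 ⟨((hW _ _).1 hz).1, fun b hb => ((hW _ _).1 hz).2 b (h hb)⟩
  let f : Subgroup Γ → ℕ := fun B => Nat.card B * Nat.card (W B)
  have hf : ∀ B ≤ E, f B ≤ f E := by
    intro B hB
    have hc : ∀ b ∈ B, ∀ k ∈ W B, b * k = k * b := fun b hb k hk => ((hW _ _).1 hk).2 b hb
    obtain ⟨R, hR1, hR2⟩ := exists_prod B (W B) hc
    have h1 : El p R := El.prod hc hR1 (hE2.anti hB) (hVel.anti inf_le_left)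
    have h2 : R ≤ P := by
      intro x hx
      obtain ⟨b, hb, k, hk, rfl⟩ := (hR1 x).1 hx
      exact mul_mem (hE1 (hB hb)) (hVP ((hW _ _).1 hk).1)
    have h3 : Nat.card R ≤ Nat.card E := by
      rw [hE3]
      exact le_eG h2 h1
    have h4 : B ⊓ W B ≤ W E := by
      intro z hz
      exact (hW _ _).2 ⟨((hW _ _).1 hz.2).1, fun e he => hE2.1 e he z (hB hz.1)⟩
    change Nat.card B * Nat.card (W B) ≤ Nat.card E * Nat.card (W E)
    rw [hR2, mul_comm]
    exact Nat.mul_le_mul h3 (card_le_of_le h4)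
  -- a minimal best offender
  obtain ⟨B, ⟨hB1, hB2, hB3⟩, hBmin⟩ := Set.Finite.exists_minimal
    (s := {B : Subgroup Γ | C < B ∧ B ≤ E ∧ f B = f E}) (Set.toFinite _) ⟨E, hCE, le_rfl, rfl⟩
  have hnB : ¬ B ≤ Y₀ := by
    intro h
    refine hB1.not_ge fun z hz => ⟨hB2 hz, mem_centralizer_iff.2 fun v hv => ?_⟩
    exact (hY₀ z (h hz) v hv).symm
  have hBel : El p B := hE2.anti hB2
  obtain ⟨n, hn⟩ := relIndex_pow (H := C) hBel
  have hcard : Nat.card C * C.relIndex B = Nat.card B := by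
    rw [← relIndex_bot_left, ← relIndex_bot_left, relIndex_mul_relIndex _ _ _ bot_le hB1.le]
  by_cases hn1 : C.relIndex B = p
  · -- a transvection
    have hWC : W C = V := le_antisymm inf_le_left fun z hz => (hW _ _).2 ⟨hz, fun b hb => hCV b hb z hz⟩
    have h1 : Nat.card C * Nat.card V ≤ Nat.card C * (p * Nat.card (W B)) := by
      have h2 : f C ≤ f B := by
        rw [hB3]
        exact hf C hCE.le
      change Nat.card C * Nat.card (W C) ≤ Nat.card B * Nat.card (W B) at h2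
      rw [hWC, ← hcard, hn1, mul_assoc] at h2
      exact h2
    have h2 : Nat.card V ≤ p * Nat.card (W B) := Nat.le_of_mul_le_mul_left h1 Nat.card_pos
    apply hnB
    intro t ht
    have h3 : TvG p V t := by
      unfold TvG
      refine h2.trans (Nat.mul_le_mul_left p ?_)
      rw [card_cent]
      refine card_le_of_le fun z hz => ?_
      exact ⟨mem_centralizer_one.2 (((hW _ _).1 hz).2 t ht), ((hW _ _).1 hz).1⟩
    exact hQ (zpowers t) (by rw [zpowers_le]; exact hE1 (hB2 ht)) (Or.inr ⟨t, h3, rfl⟩) (mem_zpowers t)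
  · -- an `α`-subgroup
    refine hnB (hQ B (hB2.trans hE1) (Or.inl ?_))
    intro B' hB' hidx z hz hzB' a ha
    have hcard' : Nat.card B' * p = Nat.card B := by
      rw [← hidx, ← relIndex_bot_left, ← relIndex_bot_left, relIndex_mul_relIndex _ _ _ bot_le hB']
    by_cases hC : C ≤ B'
    · have hne' : C ≠ B' := by
        rintro rfl
        exact hn1 hidx
      have hlt : B' < B := by
        refine lt_of_le_of_ne hB' ?_
        rintro rfl
        rw [relIndex_self] at hidx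
        exact hp.one_lt.ne hidx
      have h1 : f B' < f B := by
        rw [hB3]
        refine lt_of_le_of_ne (hf B' (hB'.trans hB2)) fun h => ?_
        exact hlt.not_ge (hBmin ⟨lt_of_le_of_ne hC hne', hB'.trans hB2, h⟩ hB')
      have h2 : Nat.card (W B') < p * Nat.card (W B) := by
        change Nat.card B' * Nat.card (W B') < Nat.card B * Nat.card (W B) at h1
        rw [← hcard', mul_assoc] at h1
        exact lt_of_mul_lt_mul_left h1 (Nat.zero_le _)
      obtain ⟨m, hm⟩ := relIndex_pow (H := W B) (K := W B') (hVel.anti inf_le_left)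
      have h3 : Nat.card (W B) * (W B).relIndex (W B') = Nat.card (W B') := by
        rw [← relIndex_bot_left, ← relIndex_bot_left, relIndex_mul_relIndex _ _ _ bot_le (hWa _ _ hB')]
      rw [← h3, mul_comm p, hm] at h2
      have h4 : p ^ m < p ^ 1 := by
        rw [pow_one]
        exact lt_of_mul_lt_mul_left h2 (Nat.zero_le _)
      have h5 : m = 0 := by
        have := (Nat.pow_lt_pow_iff_right hp.one_lt).1 h4
        omega
      rw [h5, pow_zero, relIndex_eq_one] at hm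
      exact ((hW _ _).1 (hm ((hW _ _).2 ⟨hz, hzB'⟩))).2 a ha
    · have h1 : B' ⊔ C = B := by
        have h2 : B'.relIndex (B' ⊔ C) * (B' ⊔ C).relIndex B = p := by
          rw [relIndex_mul_relIndex _ _ _ le_sup_left (sup_le hB' hB1.le), hidx]
        rcases (Nat.dvd_prime hp).1 (Dvd.intro_left _ h2) with h3 | h3
        · exact le_antisymm (sup_le hB' hB1.le) (relIndex_eq_one.1 h3)
        · exfalso
          rw [h3] at h2
          have h4 : B'.relIndex (B' ⊔ C) = 1 := Nat.eq_of_mul_eq_mul_right hp.pos (by rw [h2, one_mul])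
          rw [relIndex_eq_one] at h4
          exact hC (le_sup_right.trans h4)
      have h2 : B' ⊔ C ≤ centralizer ({z} : Set Γ) := by
        refine sup_le (fun b hb => mem_centralizer_one.2 (hzB' b hb).symm) fun c hc => ?_
        exact mem_centralizer_one.2 (hCV c hc z hz).symm
      rw [h1] at h2
      exact (mem_centralizer_one.1 (h2 ha)).symm

/-- (6) -/
theorem tauG_iff {Y₀ P : Subgroup Γ} (hY₀ : YG p Y₀ = Y₀) (hP : IsPGroup p P) (hle : Y₀ ≤ P) :
    tauG p P = tauG p Y₀ ↔ ¬ FamG p Y₀ P := by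
  constructor
  · intro h hF
    obtain ⟨-, -, A, hA, hQ, hn⟩ := famG_iff.1 hF
    have h1 := YG_eq_of_tauG hle h.symm
    rw [hY₀] at h1
    obtain ⟨n, hst⟩ := exists_stable (p := p) P
    apply hn
    have h2 := VG_eq_Om hst
    rw [← h1] at h2
    rw [← h2] at hQ
    rw [h1]
    exact (le_OG hA hQ).trans (le_iSup (OsG p P) n)
  · intro hF
    have hQ : ∀ A ≤ P, QG p (Om p Y₀) A → A ≤ Y₀ := by
      intro A hA hQ
      by_contra hn
      exact hF (famG_iff.2 ⟨hP, hle, A, hA, hQ, hn⟩)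
    refine (tauG_eq_of hle (fun E h1 h2 h3 => elem_le hle h1 h2 h3 hQ) fun j _ A hA hj => hQ A hA (hj.anti ?_)).symm
    obtain ⟨n, hst⟩ := exists_stable (p := p) Y₀
    have h2 := VG_eq_Om hst
    rw [hY₀] at h2
    rw [← h2]
    rcases le_total n j with h | h
    · rw [hst j h]
    · exact VG_anti Y₀ h

end finite

/-! ### equivariance -/

section equi

variable [Finite Γ] {p : ℕ}

omit [Finite Γ] in
theorem map_sSup_eq (f : Γ ≃* Γ) (s t : Set (Subgroup Γ)) (h : ∀ A, A ∈ s ↔ A.map f.toMonoidHom ∈ t) :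
    sSup t = (sSup s).map f.toMonoidHom := by
  apply le_antisymm
  · refine sSup_le fun B hB => ?_
    have h1 : (B.comap f.toMonoidHom).map f.toMonoidHom = B := map_comap_eq_self_of_surjective f.surjective B
    rw [← h1]
    exact map_mono (le_sSup ((h _).2 (by rwa [h1])))
  · rw [map_le_iff_le_comap]
    exact sSup_le fun A hA => map_le_iff_le_comap.1 (le_sSup ((h A).1 hA))

omit [Finite Γ] in
theorem map_symm (f : Γ ≃* Γ) (A : Subgroup Γ) : (A.map f.toMonoidHom).map f.symm.toMonoidHom = A := by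
  ext x
  rw [mem_map_equiv, mem_map_equiv]
  simp

omit [Finite Γ] in
theorem card_map (f : Γ ≃* Γ) (A : Subgroup Γ) : Nat.card (A.map f.toMonoidHom) = Nat.card A :=
  card_map_of_injective f.injective

omit [Finite Γ] in
theorem map_le_iff (f : Γ ≃* Γ) (A B : Subgroup Γ) : A.map f.toMonoidHom ≤ B.map f.toMonoidHom ↔ A ≤ B :=
  map_le_map_iff_of_injective f.injective

omit [Finite Γ] in
theorem El.of_map (f : Γ ≃* Γ) {E : Subgroup Γ} (h : El p (E.map f.toMonoidHom)) : El p E := by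
  constructor
  · intro a ha b hb
    have h1 := h.1 (f a) (mem_map_of_mem _ ha) (f b) (mem_map_of_mem _ hb)
    rw [← map_mul, ← map_mul] at h1
    exact f.injective h1
  · intro a ha
    have h1 := h.2 (f a) (mem_map_of_mem _ ha)
    rw [← map_pow, ← map_one f] at h1
    exact f.injective h1

omit [Finite Γ] in
theorem El.map_iff (f : Γ ≃* Γ) {E : Subgroup Γ} : El p (E.map f.toMonoidHom) ↔ El p E :=
  ⟨El.of_map f, fun h => El.of_map f.symm (by rwa [map_symm])⟩

omit [Finite Γ] in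
theorem alphaG_of_map (f : Γ ≃* Γ) {V A : Subgroup Γ}
    (h : AlphaG p (V.map f.toMonoidHom) (A.map f.toMonoidHom)) : AlphaG p V A := by
  intro B hB hidx z hz hzB a ha
  have h1 := h (B.map f.toMonoidHom) (map_mono hB)
    (by rw [relIndex_map_map_of_injective _ _ f.injective, hidx]) (f z) (mem_map_of_mem _ hz) (by
      rintro _ ⟨b, hb, rfl⟩
      change f b * f z = f z * f b
      rw [← map_mul, hzB b hb, map_mul]) (f a) (mem_map_of_mem _ ha)
  rw [← map_mul, ← map_mul] at h1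
  exact f.injective h1

omit [Finite Γ] in
theorem centralizer_map (f : Γ ≃* Γ) (t : Γ) :
    centralizer ({f t} : Set Γ) = (centralizer ({t} : Set Γ)).map f.toMonoidHom := by
  ext z
  rw [mem_map_equiv, mem_centralizer_one, mem_centralizer_one]
  constructor
  · intro h
    have := congrArg f.symm h
    simpa using this
  · intro h
    have := congrArg f h
    simpa using this

theorem tvG_map (f : Γ ≃* Γ) {V : Subgroup Γ} {t : Γ} : TvG p (V.map f.toMonoidHom) (f t) ↔ TvG p V t := by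
  rw [tvG_iff, tvG_iff, centralizer_map, relIndex_map_map_of_injective _ _ f.injective]

theorem qG_of_map (f : Γ ≃* Γ) {V A : Subgroup Γ} (h : QG p (V.map f.toMonoidHom) (A.map f.toMonoidHom)) :
    QG p V A := by
  rcases h with h | ⟨t, h1, h2⟩
  · exact Or.inl (alphaG_of_map f h)
  · refine Or.inr ⟨f.symm t, ?_, ?_⟩
    · rw [← tvG_map f, f.apply_symm_apply]
      exact h1
    · have h3 := congrArg (Subgroup.map f.symm.toMonoidHom) h2
      rw [map_symm, MonoidHom.map_zpowers] at h3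
      exact h3

theorem qG_map (f : Γ ≃* Γ) {V A : Subgroup Γ} :
    QG p (V.map f.toMonoidHom) (A.map f.toMonoidHom) ↔ QG p V A :=
  ⟨qG_of_map f, fun h => qG_of_map f.symm (by rwa [map_symm, map_symm])⟩

theorem eG_map (f : Γ ≃* Γ) (P : Subgroup Γ) : eG p (P.map f.toMonoidHom) = eG p P := by
  have key : ∀ (f : Γ ≃* Γ) (P : Subgroup Γ), eG p P ≤ eG p (P.map f.toMonoidHom) := by
    intro f P
    obtain ⟨E, h1, h2, h3⟩ := exists_eG (p := p) P
    rw [← h3, ← card_map f E]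
    exact le_eG (map_mono h1) ((El.map_iff f).2 h2)
  refine le_antisymm ?_ (key f P)
  have := key f.symm (P.map f.toMonoidHom)
  rwa [map_symm] at this

theorem JG_map (f : Γ ≃* Γ) (P : Subgroup Γ) : JG p (P.map f.toMonoidHom) = (JG p P).map f.toMonoidHom := by
  refine map_sSup_eq f _ _ fun A => ?_
  rw [Set.mem_ofPred_eq, Set.mem_ofPred_eq, map_le_iff, El.map_iff, card_map, eG_map]

omit [Finite Γ] in
theorem Om_map (f : Γ ≃* Γ) (P : Subgroup Γ) : Om p (P.map f.toMonoidHom) = (Om p P).map f.toMonoidHom := by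
  ext z
  rw [mem_map_equiv]
  change (z ∈ P.map f.toMonoidHom ∧ (∀ y ∈ P.map f.toMonoidHom, y * z = z * y) ∧ z ^ p = 1) ↔
    (f.symm z ∈ P ∧ (∀ y ∈ P, y * f.symm z = f.symm z * y) ∧ (f.symm z) ^ p = 1)
  rw [mem_map_equiv, ← map_pow, map_eq_one_iff _ f.symm.injective]
  refine and_congr_right fun _ => and_congr_left fun _ => ?_
  constructor
  · intro h y hy
    have h1 := congrArg f.symm (h (f y) (mem_map_of_mem _ hy))
    simpa using h1
  · rintro h _ ⟨y, hy, rfl⟩
    have h1 := congrArg f (h y hy)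
    simpa using h1

theorem OG_map (f : Γ ≃* Γ) (V P : Subgroup Γ) :
    OG p (V.map f.toMonoidHom) (P.map f.toMonoidHom) = (OG p V P).map f.toMonoidHom := by
  refine map_sSup_eq f _ _ fun A => ?_
  rw [Set.mem_ofPred_eq, Set.mem_ofPred_eq, map_le_iff, qG_map]

theorem VG_map (f : Γ ≃* Γ) (P : Subgroup Γ) (j : ℕ) :
    VG p (P.map f.toMonoidHom) j = (VG p P j).map f.toMonoidHom := by
  induction j with
  | zero => rw [VG_zero, VG_zero, JG_map, Om_map]
  | succ j ih =>
    rw [VG_succ, VG_succ]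
    unfold OsG
    rw [ih, OG_map, map_inf_eq _ _ _ f.injective]
    congr 1
    ext z
    rw [mem_map_equiv, mem_centralizer_iff, mem_centralizer_iff]
    constructor
    · intro h y hy
      have h1 := congrArg f.symm (h (f y) (mem_map_of_mem _ hy))
      simpa using h1
    · rintro h _ ⟨y, hy, rfl⟩
      have h1 := congrArg f (h y hy)
      simpa using h1

theorem OsG_map (f : Γ ≃* Γ) (P : Subgroup Γ) (j : ℕ) :
    OsG p (P.map f.toMonoidHom) j = (OsG p P j).map f.toMonoidHom := by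
  unfold OsG
  rw [VG_map, OG_map]

theorem YG_map (f : Γ ≃* Γ) (P : Subgroup Γ) : YG p (P.map f.toMonoidHom) = (YG p P).map f.toMonoidHom := by
  unfold YG
  rw [Subgroup.map_iSup]
  exact iSup_congr fun j => OsG_map f P j

theorem tauG_map (f : Γ ≃* Γ) (P : Subgroup Γ) : tauG p (P.map f.toMonoidHom) = tauG p P := by
  unfold tauG
  congr 1
  funext i
  match i with
  | 0 => exact eG_map f P
  | 1 =>
    change Nat.card (JG p (P.map f.toMonoidHom)) = Nat.card (JG p P)
    rw [JG_map, card_map]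
  | i + 2 =>
    change Nat.card (OsG p (P.map f.toMonoidHom) i) = Nat.card (OsG p P i)
    rw [OsG_map, card_map]

end equi

/-- **C1** -/
theorem thmC [Finite Γ] (p : ℕ) [Fact p.Prime] :
    ∃ (ι : Type) (_ : LinearOrder ι) (τ : Subgroup Γ → ι) (Y : Subgroup Γ → Subgroup Γ),
      (∀ (g : Γ) P, τ (P.map (MulAut.conj g).toMonoidHom) = τ P ∧
        Y (P.map (MulAut.conj g).toMonoidHom) = (Y P).map (MulAut.conj g).toMonoidHom) ∧
      (∀ P P' : Subgroup Γ, IsPGroup p P' → P ≤ P' → τ P ≤ τ P') ∧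
      (∀ P P' : Subgroup Γ, IsPGroup p P' → P ≤ P' → τ P = τ P' → Y P = Y P') ∧
      (∀ P : Subgroup Γ, IsPGroup p P → Y P ≤ P ∧ τ (Y P) = τ P) ∧
      (∀ P : Subgroup Γ, IsPGroup p P → ∀ z ∈ P, (∀ v ∈ Om p (Y P), z * v = v * z) → z ∈ Y P) ∧
      (∀ Y₀ : Subgroup Γ, IsPGroup p Y₀ → Y Y₀ = Y₀ → ∀ P : Subgroup Γ, IsPGroup p P → Y₀ ≤ P →
        (∀ g ∈ P, Y₀.map (MulAut.conj g).toMonoidHom = Y₀) → (τ P = τ Y₀ ↔ ¬ FamG p Y₀ P)) :=
  ⟨Lex (ℕ → ℕ), inferInstance, tauG p, YG p, fun _ P => ⟨tauG_map _ P, YG_map _ P⟩,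
    fun _ _ _ h => tauG_le h, fun _ _ _ h he => YG_eq_of_tauG h he, fun P _ => ⟨YG_le P, tauG_YG P⟩,
    fun _ _ _ hz h => mem_YG hz h, fun _ _ hY _ hP hle _ => tauG_iff hY hP hle⟩

end Cfsg.Agent.H220.CX
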